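import Mathlib

/-!
# Dimensions of faithful modules for groups with a cyclic trivial intersection Sylow subgroup

Let `x` generate the Sylow subgroup `P` of order `p ^ n`, `n ≥ 2`, and put `T = ρ x - 1`.  A sum `f`
of the conjugates of `T ^ (p - 1)` under the automizer commutes with the normalizer.  Its relative
trace `g` is a scalar by Schur's lemma, hence zero, and differs from `f` by a trace from the trivial
subgroup, whose image lies deep in the filtration by the powers of `T` when the dimension is small.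
-/

set_option linter.style.longLine false
set_option linter.unusedSectionVars false

namespace Cfsg.Agent.BC85.CyclicTI

open Finset

section Algebra

variable {R : Type*} [Ring R]

/-- In characteristic `p` the sum of the powers below `p ^ n` is a power of the difference from one. -/
theorem sum_range_pow {p : ℕ} [Fact p.Prime] [CharP R p] (D : R) (n : ℕ) :
    ∑ k ∈ range (p ^ n), D ^ k = (D - 1) ^ (p ^ n - 1) := by
  have hp : 1 ≤ p ^ n := Nat.one_le_pow _ _ (Fact.out : p.Prime).pos
  have key : ∑ k ∈ range (p ^ n), (Polynomial.X : Polynomial (ZMod p)) ^ k =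
      (Polynomial.X - 1) ^ (p ^ n - 1) := by
    have hX : (Polynomial.X - 1 : Polynomial (ZMod p)) ≠ 0 := Polynomial.X_sub_C_ne_zero 1
    refine mul_right_cancel₀ hX ?_
    rw [geom_sum_mul, ← pow_succ, Nat.sub_add_cancel hp, sub_pow_char_pow, one_pow]
  letI := ZMod.algebra R p
  have := congrArg (Polynomial.aeval (R := ZMod p) (A := R) D) key
  simpa [map_sum] using this

variable {K : Type*} [Field K] {V : Type*} [AddCommGroup V] [Module K V]

theorem pow_apply_mem_range_of_le (T : Module.End K V) {a b : ℕ} (h : a ≤ b) (v : V) :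
    (T ^ b) v ∈ LinearMap.range (T ^ a) :=
  ⟨(T ^ (b - a)) v, by rw [← Module.End.mul_apply, ← pow_add, Nat.add_sub_cancel' h]⟩

/-- The iterated commutator with `T` maps deep into the filtration by the powers of `T`. -/
theorem mulLeft_sub_mulRight_pow_mem {T : Module.End K V} {d m : ℕ} (hT : T ^ d = 0)
    (h : Module.End K V) (v : V) :
    (((LinearMap.mulLeft K T - LinearMap.mulRight K T) ^ m) h) v ∈
      LinearMap.range (T ^ (m + 1 - d)) := by
  rw [sub_eq_add_neg, ((LinearMap.commute_mulLeft_right (R := K) T T).neg_right).add_pow,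
    LinearMap.sum_apply, LinearMap.sum_apply]
  refine Submodule.sum_mem _ fun i hi => ?_
  rw [← Nat.cast_comm, ← nsmul_eq_mul, LinearMap.smul_apply, LinearMap.smul_apply]
  refine Submodule.smul_of_tower_mem _ _ ?_
  rw [← neg_one_smul K (LinearMap.mulRight K T), smul_pow, mul_smul_comm, LinearMap.smul_apply,
    LinearMap.smul_apply]
  refine Submodule.smul_mem _ _ ?_
  rw [LinearMap.pow_mulLeft, LinearMap.pow_mulRight, Module.End.mul_apply,
    LinearMap.mulRight_apply, LinearMap.mulLeft_apply]
  rcases le_or_gt (m + 1 - d) i with hle | hgt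
  · exact pow_apply_mem_range_of_le T hle _
  · have : T ^ (m - i) = 0 := by
      rw [show m - i = d + (m - i - d) by omega, pow_add, hT, zero_mul]
    rw [this, mul_zero, mul_zero, LinearMap.zero_apply]
    exact zero_mem _

end Algebra

variable {G : Type*} [Group G] [Finite G] {p : ℕ} [Fact p.Prime]
  {F : Type*} [Field F] [CharP F p] {V : Type*} [AddCommGroup V] [Module F V] [FiniteDimensional F V]

/-- Conjugation of endomorphisms. -/
def conjEnd (ρ : Representation F G V) : G →* Module.End F (Module.End F V) where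
  toFun t := LinearMap.mulLeftRight F (ρ t, ρ t⁻¹)
  map_one' := LinearMap.ext fun f => by simp
  map_mul' s t := LinearMap.ext fun f => by simp [mul_assoc]

theorem conjEnd_apply (ρ : Representation F G V) (t : G) (f : Module.End F V) :
    conjEnd ρ t f = ρ t * f * ρ t⁻¹ := by
  simp [conjEnd]

theorem rep_mul_inv (ρ : Representation F G V) (t : G) : ρ t * ρ t⁻¹ = 1 := by
  rw [← map_mul, mul_inv_cancel, map_one]

theorem rep_inv_mul (ρ : Representation F G V) (t : G) : ρ t⁻¹ * ρ t = 1 := by
  rw [← map_mul, inv_mul_cancel, map_one]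

theorem le_finrank (P : Sylow p G) (hcyc : IsCyclic P) (n : ℕ) (hn : 2 ≤ n)
    (hPn : Nat.card P = p ^ n)
    (hTI : ∀ Q : Sylow p G, Q ≠ P → (P : Subgroup G) ⊓ (Q : Subgroup G) = ⊥)
    (ρ : Representation F G V) (hfaith : Function.Injective ρ) (hirr : ρ.IsIrreducible) :
    p ^ n - (p - 1) ≤ Module.finrank F V := by
  classical
  have hp := (Fact.out : p.Prime)
  have hp2 := hp.two_le
  by_contra hlt
  push Not at hlt
  haveI : Nontrivial V := by
    by_contra hV
    rw [not_nontrivial_iff_subsingleton] at hV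
    have : Subsingleton G := ⟨fun a b => hfaith (LinearMap.ext fun v => Subsingleton.elim _ _)⟩
    rw [Nat.card_eq_one_iff_unique.mpr ⟨inferInstance, inferInstance⟩] at hPn
    exact (Nat.one_lt_pow (by omega : n ≠ 0) hp.one_lt).ne hPn
  haveI : CharP (Module.End F V) p :=
    charP_of_injective_algebraMap (algebraMap F (Module.End F V)).injective p
  obtain ⟨⟨x, hxP⟩, hx⟩ := hcyc.exists_generator
  have hgen : ∀ g ∈ (P : Subgroup G), ∃ k : ℕ, g = x ^ k := by
    intro g hg
    obtain ⟨k, hk⟩ := mem_powers_iff_mem_zpowers.mpr (hx ⟨g, hg⟩)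
    exact ⟨k, by simpa using (congrArg Subtype.val hk).symm⟩
  have hord : orderOf x = p ^ n := by
    rw [← hPn, ← orderOf_eq_card_of_forall_mem_zpowers hx, Subgroup.orderOf_mk]
  set q := p ^ n with hq
  set T : Module.End F V := ρ x - 1 with hT
  have hTx : Commute T (ρ x) := (Commute.refl _).sub_left (Commute.one_left _)
  have hTnil : IsNilpotent T := by
    refine ⟨q, ?_⟩
    rw [hT, sub_pow_char_pow_of_commute p _ (Commute.one_right _), ← map_pow, ← hq, ← hord,
      pow_orderOf_eq_one, map_one, one_pow, sub_self]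
  set d := Module.finrank F V with hd
  have hTd : T ^ d = 0 := by
    have h := LinearMap.aeval_self_charpoly T
    rwa [IsNilpotent.charpoly_eq_X_pow_finrank hTnil, map_pow, Polynomial.aeval_X] at h
  have hTne : T ^ (p - 1) ≠ 0 := by
    intro h0
    have hle : p - 1 ≤ p ^ (n - 1) := le_trans (by omega) (Nat.le_self_pow (by omega) p)
    have h1 : T ^ p ^ (n - 1) = 0 := by
      rw [← Nat.add_sub_cancel' hle, pow_add, h0, zero_mul]
    rw [hT, sub_pow_char_pow_of_commute p _ (Commute.one_right _), one_pow, sub_eq_zero, ← map_pow,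
      ← map_one ρ] at h1
    have h2 := orderOf_dvd_of_pow_eq_one (hfaith h1)
    rw [hord] at h2
    exact absurd ((Nat.pow_dvd_pow_iff_le_right hp.one_lt).mp h2) (by omega)
  -- the automizer
  set N := Subgroup.normalizer ((P : Subgroup G) : Set G) with hN
  have hPN : (P : Subgroup G) ≤ N := Subgroup.le_normalizer
  have hconj : ∀ y : N, ∃ k : ℕ, (y : G) * x * (y : G)⁻¹ = x ^ k := fun y =>
    hgen _ ((Subgroup.mem_normalizer_iff.mp y.2 x).mp hxP)
  choose a ha using hconj
  have hsame : ∀ i j : ℕ, x ^ i = x ^ j ↔ (i : ZMod q) = j := fun i j => by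
    rw [pow_eq_pow_iff_modEq, hord, ZMod.natCast_eq_natCast_iff]
  let am : N →* ZMod q :=
    { toFun := fun y => (a y : ZMod q)
      map_one' := by
        rw [← Nat.cast_one, ← hsame, ← ha, Subgroup.coe_one, one_mul, inv_one, mul_one, pow_one]
      map_mul' := fun y z => by
        rw [← Nat.cast_mul, ← hsame, ← ha, Subgroup.coe_mul, mul_inv_rev,
          show (y : G) * z * x * ((z : G)⁻¹ * (y : G)⁻¹) = y * (z * x * (z : G)⁻¹) * (y : G)⁻¹ by group,
          ha, ← conj_pow, ha, ← pow_mul, mul_comm] }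
  set A : Subgroup (ZMod q)ˣ := am.toHomUnits.range with hA
  haveI : NeZero q := ⟨(pow_pos hp.pos n).ne'⟩
  have hAp : ¬ p ∣ Nat.card A := by
    intro h
    have hker : (P : Subgroup G).subgroupOf N ≤ am.toHomUnits.ker := by
      intro y hy
      obtain ⟨k, hk⟩ := hgen _ (Subgroup.mem_subgroupOf.mp hy)
      refine Units.ext ?_
      show ((a y : ℕ) : ZMod q) = 1
      rw [← Nat.cast_one, ← hsame, ← ha, pow_one, hk, (Commute.pow_self x k).eq, mul_inv_cancel_right]
    have h1 : Nat.card A ∣ ((P : Subgroup G).subgroupOf N).index := by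
      rw [hA, ← Subgroup.index_ker]
      exact Subgroup.index_dvd_of_le hker
    exact P.not_dvd_index' (Nat.ne_zero_iff_zero_lt.mpr (Nat.pos_of_ne_zero Subgroup.FiniteIndex.index_ne_zero))
      ((h.trans h1).trans (Subgroup.relIndex_dvd_index_of_le hPN))
  set f : Module.End F V := ∑ u : A, (ρ x ^ (u : (ZMod q)ˣ).val.val - 1) ^ (p - 1) with hf
  have hpow : ∀ i j : ℕ, (i : ZMod q) = j → ρ x ^ i = ρ x ^ j := fun i j h => by
    rw [← map_pow, ← map_pow, (hsame i j).mpr h]
  have hfN : ∀ y : N, conjEnd ρ y f = f := by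
    intro y
    rw [hf, map_sum]
    refine Fintype.sum_equiv (Equiv.mulLeft ⟨am.toHomUnits y, y, rfl⟩) _ _ fun u => ?_
    have hc : ∀ z : Module.End F V, ∀ k : ℕ, ρ (y : G) * z ^ k * ρ (y : G)⁻¹ = (ρ (y : G) * z * ρ (y : G)⁻¹) ^ k := by
      intro z k
      exact ((⟨ρ (y : G), ρ (y : G)⁻¹, rep_mul_inv ρ _, rep_inv_mul ρ _⟩ : (Module.End F V)ˣ).conj_pow z k).symm
    rw [conjEnd_apply, hc, mul_sub, sub_mul, mul_one, rep_mul_inv, hc]
    congr 2
    rw [← map_mul, ← map_mul, ha, ← map_pow, ← pow_mul, map_pow]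
    apply hpow
    rw [Nat.cast_mul, ZMod.natCast_zmod_val, ZMod.natCast_zmod_val]
    rfl
  -- the leading term of `f`
  have hfdec : ∃ s : Module.End F V, f = (Nat.card A : F) • T ^ (p - 1) + T ^ p * s := by
    have hterm : ∀ u : A, ∃ s : Module.End F V,
        (ρ x ^ (u : (ZMod q)ˣ).val.val - 1) ^ (p - 1) = T ^ (p - 1) + T ^ p * s := by
      intro u
      set i := (u : (ZMod q)ˣ).val.val with hi
      have hip : ¬ p ∣ i := fun h => by
        have hcop : i.Coprime q := ZMod.val_coe_unit_coprime _
        have := Nat.Coprime.coprime_dvd_left h hcop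
        rw [Nat.Prime.coprime_iff_not_dvd hp] at this
        exact this (dvd_pow_self p (by omega))
      obtain ⟨s₁, hs₁⟩ : ∃ s₁ : Polynomial F, (Polynomial.X + 1) ^ i - 1 =
          Polynomial.X * (Polynomial.C (i : F) + Polynomial.X * s₁) := by
        induction i with
        | zero => exact ⟨0, by simp⟩
        | succ i ih =>
          obtain ⟨s, hs⟩ := ih
          refine ⟨Polynomial.C (i : F) + (Polynomial.X + 1) * s, ?_⟩
          rw [pow_succ, sub_eq_iff_eq_add.mp hs]
          simp only [Nat.cast_succ, map_add, map_one, map_natCast]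
          ring
      obtain ⟨s₂, hs₂⟩ : ∃ s₂ : Polynomial F, ((Polynomial.X + 1) ^ i - 1) ^ (p - 1) =
          Polynomial.X ^ (p - 1) + Polynomial.X ^ p * s₂ := by
        have hdvd : Polynomial.X ∣ (Polynomial.C (i : F) + Polynomial.X * s₁) ^ (p - 1) - 1 := by
          rw [Polynomial.X_dvd_iff, Polynomial.coeff_zero_eq_eval_zero]
          simp only [Polynomial.eval_sub, Polynomial.eval_pow, Polynomial.eval_add, Polynomial.eval_C,
            Polynomial.eval_mul, Polynomial.eval_X, zero_mul, add_zero, Polynomial.eval_one]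
          have h0 : ((i : ℕ) : ZMod p) ≠ 0 := by rwa [Ne, ZMod.natCast_eq_zero_iff]
          have := congrArg (ZMod.castHom (dvd_refl p) F) (ZMod.pow_card_sub_one_eq_one h0)
          rw [map_pow, map_natCast, map_one] at this
          rw [this, sub_self]
        obtain ⟨c, hc⟩ := hdvd
        refine ⟨c, ?_⟩
        rw [hs₁, mul_pow, sub_eq_iff_eq_add.mp hc, mul_add, mul_one, add_comm, ← mul_assoc, ← pow_succ,
          Nat.sub_add_cancel hp.one_le]
      refine ⟨Polynomial.aeval T s₂, ?_⟩
      have := congrArg (Polynomial.aeval T) hs₂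
      simpa [hT] using this
    choose s hs using hterm
    refine ⟨∑ u, s u, ?_⟩
    rw [hf, Finset.sum_congr rfl fun u _ => hs u, Finset.sum_add_distrib, Finset.sum_const,
      Finset.card_univ, ← Nat.card_eq_fintype_card, Finset.mul_sum, Nat.cast_smul_eq_nsmul]
  -- the relative trace
  haveI : Fintype (G ⧸ N) := Fintype.ofFinite _
  set Fq : G ⧸ N → Module.End F V := fun c => conjEnd ρ c.out f with hFq
  have hFq' : ∀ t : G, Fq t = conjEnd ρ t f := by
    intro t
    obtain ⟨y, hy⟩ := QuotientGroup.mk_out_eq_mul N t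
    rw [hFq]
    show conjEnd ρ (t : G ⧸ N).out f = _
    rw [hy, map_mul, Module.End.mul_apply, hfN]
  have hFsmul : ∀ (s : G) (c : G ⧸ N), conjEnd ρ s (Fq c) = Fq (s • c) := by
    intro s c
    induction c using QuotientGroup.induction_on with
    | H t => rw [MulAction.Quotient.smul_mk, smul_eq_mul, hFq', hFq', map_mul, Module.End.mul_apply]
  set g : Module.End F V := ∑ c, Fq c with hg
  have hgG : ∀ s : G, g * ρ s = ρ s * g := by
    intro s
    have h : conjEnd ρ s g = g := by
      rw [hg, map_sum, Finset.sum_congr rfl fun c _ => hFsmul s c]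
      exact Fintype.sum_equiv (MulAction.toPerm s) _ _ fun c => rfl
    rw [conjEnd_apply] at h
    conv_lhs => rw [← h]
    rw [mul_assoc, rep_inv_mul, mul_one]
  -- the free orbits
  let S : Finset (G ⧸ N) := univ.erase ((1 : G) : G ⧸ N)
  have hfree : ∀ c ∈ S, ∀ u ∈ (P : Subgroup G), u • c = c → u = 1 := by
    intro c hc u hu huc
    induction c using QuotientGroup.induction_on with
    | H t =>
      rw [MulAction.Quotient.smul_mk, smul_eq_mul, QuotientGroup.eq, ← inv_mem_iff, mul_inv_rev,
        inv_inv] at huc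
      have htN : t ∉ N := fun h => (Finset.mem_erase.mp hc).1
        (QuotientGroup.eq.mpr (by simpa using inv_mem h))
      set y := t⁻¹ * (u * t) with hy
      have hyP : y ∈ (P : Subgroup G) := by
        have hyp : IsPGroup p (Subgroup.zpowers y) := by
          obtain ⟨k, hk⟩ := IsPGroup.iff_orderOf.mp P.2 ⟨u, hu⟩
          refine IsPGroup.of_card (n := k) ?_
          rw [Nat.card_zpowers, show y = MulAut.conj t⁻¹ u by simp [hy, mul_assoc],
            MulEquiv.orderOf_eq, ← hk, Subgroup.orderOf_mk]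
        obtain ⟨Q', hQ'⟩ := (hyp.to_sup_of_normal_right' P.2
          (Subgroup.zpowers_le.mpr huc)).exists_le_sylow
        have hQP : Q' = P := Sylow.ext (P.3 Q'.2 (le_sup_right.trans hQ'))
        exact hQP ▸ hQ' (Subgroup.mem_sup_left (Subgroup.mem_zpowers y))
      have hne : t • P ≠ P := fun h => htN (Sylow.smul_eq_iff_mem_normalizer.mp h)
      have := hTI (t • P) hne
      rw [Subgroup.eq_bot_iff_forall] at this
      refine this u ⟨hu, ?_⟩
      refine ⟨y, hyP, ?_⟩
      simp [hy, mul_assoc]
  let orb : G ⧸ N → Quotient (MulAction.orbitRel (P : Subgroup G) (G ⧸ N)) := Quotient.mk''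
  let Ω : Finset (G ⧸ N) := S.filter fun c => (orb c).out = c
  have hdec : ∑ c ∈ S, Fq c = ∑ k ∈ range q, conjEnd ρ (x ^ k) (∑ ω ∈ Ω, Fq ω) := by
    simp only [map_sum, hFsmul]
    rw [← Finset.sum_product' (range q) Ω fun k ω => Fq (x ^ k • ω)]
    symm
    refine Finset.sum_bij (fun z _ => x ^ z.1 • z.2) ?_ ?_ ?_ fun _ _ => rfl
    · rintro ⟨k, ω⟩ hz
      obtain ⟨-, hω⟩ := Finset.mem_product.mp hz
      refine Finset.mem_erase.mpr ⟨fun h => (Finset.mem_erase.mp (Finset.mem_filter.mp hω).1).1 ?_,
        Finset.mem_univ _⟩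
      dsimp only at h
      rw [smul_eq_iff_eq_inv_smul] at h
      rw [h, MulAction.Quotient.smul_mk, QuotientGroup.eq]
      simpa using hPN (inv_mem (pow_mem hxP k))
    · rintro ⟨k, ω⟩ hz ⟨k', ω'⟩ hz' h
      obtain ⟨hk, hω⟩ := Finset.mem_product.mp hz
      obtain ⟨hk', hω'⟩ := Finset.mem_product.mp hz'
      dsimp only at h hk hk' hω hω'
      have horb : orb ω = orb ω' := Quotient.sound' (MulAction.orbitRel_apply.mpr
        ⟨⟨(x ^ k)⁻¹ * x ^ k', mul_mem (inv_mem (pow_mem hxP k)) (pow_mem hxP k')⟩, by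
          show ((x ^ k)⁻¹ * x ^ k') • ω' = ω
          rw [mul_smul, ← h, inv_smul_smul]⟩)
      have : ω = ω' := by
        rw [← (Finset.mem_filter.mp hω).2, horb, (Finset.mem_filter.mp hω').2]
      subst this
      have h1 := hfree ω (Finset.mem_filter.mp hω).1 _
        (mul_mem (inv_mem (pow_mem hxP k')) (pow_mem hxP k)) (by rw [mul_smul, h, inv_smul_smul])
      rw [inv_mul_eq_one] at h1
      rw [pow_injOn_Iio_orderOf (by rwa [hord, Set.mem_Iio, ← Finset.mem_range])
        (by rwa [hord, Set.mem_Iio, ← Finset.mem_range]) h1.symm]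
    · intro c hc
      obtain ⟨⟨u, hu⟩, huc⟩ := MulAction.orbitRel_apply.mp (Quotient.exact' (orb c).out_eq')
      change u • c = (orb c).out at huc
      obtain ⟨k, hk⟩ := hgen _ (inv_mem hu)
      have hωS : (orb c).out ∈ S := by
        refine Finset.mem_erase.mpr ⟨fun h => (Finset.mem_erase.mp hc).1 ?_, Finset.mem_univ _⟩
        rw [← huc, smul_eq_iff_eq_inv_smul] at h
        rw [h, MulAction.Quotient.smul_mk, QuotientGroup.eq]
        simpa using hPN hu
      refine ⟨(k % q, (orb c).out), Finset.mem_product.mpr ⟨Finset.mem_range.mpr (Nat.mod_lt _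
        (pow_pos hp.pos n)), Finset.mem_filter.mpr ⟨hωS, ?_⟩⟩, ?_⟩
      · show (Quotient.mk'' (orb c).out).out = (orb c).out
        rw [Quotient.out_eq']
      · show x ^ (k % q) • (orb c).out = c
        rw [← hord, pow_mod_orderOf, ← hk, ← huc, inv_smul_smul]
  set h₀ : Module.End F V := ∑ ω ∈ Ω, Fq ω
  have hgf : g = f + ∑ c ∈ S, Fq c := by
    rw [hg, ← Finset.add_sum_erase univ Fq (Finset.mem_univ ((1 : G) : G ⧸ N)), hFq', map_one]
    rfl
  -- the trace lies deep
  have hdeep : ∀ v, (∑ c ∈ S, Fq c) v ∈ LinearMap.range (T ^ p) := by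
    intro v
    haveI : Nontrivial (Module.End F V) := inferInstance
    haveI : CharP (Module.End F (Module.End F V)) p :=
      charP_of_injective_algebraMap (algebraMap F (Module.End F (Module.End F V))).injective p
    rw [hdec]
    simp only [map_pow]
    rw [← LinearMap.sum_apply, sum_range_pow]
    have hD : conjEnd ρ x - 1 = LinearMap.mulRight F (ρ x⁻¹) *
        (LinearMap.mulLeft F T - LinearMap.mulRight F T) := by
      refine LinearMap.ext fun z => ?_
      simp only [Module.End.mul_apply, LinearMap.sub_apply, LinearMap.mulLeft_apply,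
        LinearMap.mulRight_apply, conjEnd_apply, Module.End.one_apply, hT, sub_mul, mul_sub, one_mul,
        mul_one, sub_sub_sub_cancel_right, mul_assoc, rep_mul_inv]
    have hTi : Commute T (ρ x⁻¹) := by
      refine (Commute.sub_left ?_ (Commute.one_left _))
      show ρ x * ρ x⁻¹ = ρ x⁻¹ * ρ x
      rw [rep_mul_inv, rep_inv_mul]
    have hcomm : Commute (LinearMap.mulRight F (ρ x⁻¹)) (LinearMap.mulLeft F T - LinearMap.mulRight F T) := by
      refine Commute.sub_right (LinearMap.commute_mulLeft_right T (ρ x⁻¹)).symm ?_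
      refine LinearMap.ext fun z => ?_
      simp only [Module.End.mul_apply, LinearMap.mulRight_apply, mul_assoc, hTi.eq]
    rw [hD, hcomm.mul_pow, Module.End.mul_apply, LinearMap.pow_mulRight, LinearMap.mulRight_apply,
      Module.End.mul_apply]
    obtain ⟨w, hw⟩ := mulLeft_sub_mulRight_pow_mem hTd h₀ ((ρ x⁻¹ ^ (q - 1)) v)
    rw [← hw]
    exact pow_apply_mem_range_of_le T (by omega) w
  obtain ⟨s, hs⟩ := hfdec
  have hdp : d + p ≤ q := by have := hp.two_le; omega
  have hgrange : ∀ v, g v ∈ LinearMap.range (T ^ (p - 1)) := by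
    intro v
    rw [hgf, LinearMap.add_apply, hs, LinearMap.add_apply, LinearMap.smul_apply, Module.End.mul_apply]
    obtain ⟨w, hw⟩ := hdeep v
    rw [← hw]
    exact add_mem (add_mem (Submodule.smul_mem _ _ ⟨v, rfl⟩)
      (pow_apply_mem_range_of_le T (by omega) _)) (pow_apply_mem_range_of_le T (by omega) _)
  -- Schur
  have hg0 : g = 0 := by
    let W : Subrepresentation ρ := ⟨LinearMap.range g, fun t v hv => by
      obtain ⟨w, rfl⟩ := hv
      exact ⟨ρ t w, by rw [← Module.End.mul_apply, ← Module.End.mul_apply, hgG]⟩⟩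
    haveI : IsSimpleOrder (Subrepresentation ρ) := hirr
    rcases IsSimpleOrder.eq_bot_or_eq_top W with h | h
    · exact LinearMap.range_eq_bot.mp (congrArg Subrepresentation.toSubmodule h)
    · exfalso
      have htop : LinearMap.range g = ⊤ := congrArg Subrepresentation.toSubmodule h
      have hsur : LinearMap.range (T ^ (p - 1)) = ⊤ := by
        rw [eq_top_iff, ← htop]
        rintro _ ⟨v, rfl⟩
        exact hgrange v
      have hu : IsUnit (T ^ (p - 1)) :=
        (Module.End.isUnit_iff _).mpr ⟨LinearMap.injective_iff_surjective.mpr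
          (LinearMap.range_eq_top.mp hsur), LinearMap.range_eq_top.mp hsur⟩
      exact (hTnil.pow_of_pos (by omega)).not_isUnit hu
  -- the contradiction
  have hA0 : (Nat.card A : F) ≠ 0 := by rwa [Ne, CharP.cast_eq_zero_iff F p]
  have hstep : ∀ v, (T ^ (p - 1)) v ∈ LinearMap.range (T ^ p) := by
    intro v
    have h := LinearMap.congr_fun hg0 v
    rw [hgf, LinearMap.add_apply, hs, LinearMap.add_apply, LinearMap.smul_apply, LinearMap.zero_apply,
      add_assoc, add_eq_zero_iff_eq_neg] at h
    have : (Nat.card A : F) • (T ^ (p - 1)) v ∈ LinearMap.range (T ^ p) := by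
      rw [h]
      exact neg_mem (add_mem ⟨s v, rfl⟩ (hdeep v))
    exact (Submodule.smul_mem_iff _ hA0).mp this
  have hall : ∀ k : ℕ, ∀ v, (T ^ (p - 1)) v ∈ LinearMap.range (T ^ (p - 1 + k)) := by
    intro k
    induction k with
    | zero => exact fun v => ⟨v, rfl⟩
    | succ k ih =>
      intro v
      obtain ⟨w, hw⟩ := ih v
      obtain ⟨w', hw'⟩ := hstep w
      refine ⟨w', ?_⟩
      have e : ∀ m, p - 1 + k + m = m + (p - 1 + k) := fun m => by omega
      rw [← hw, show p - 1 + k = k + (p - 1) by omega, pow_add T k, Module.End.mul_apply, ← hw',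
        ← Module.End.mul_apply, ← pow_add, show k + p = k + (p - 1) + 1 by omega]
      congr 2
      omega
  refine hTne (LinearMap.ext fun v => ?_)
  obtain ⟨w, hw⟩ := hall d v
  rw [← hw, pow_add, hTd, mul_zero]
  simp

end Cfsg.Agent.BC85.CyclicTI
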